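import Groth.Agent.ResProp.EF.K380.DC
import Mathlib.Algebra.Category.ModuleCat.Abelian
import Mathlib.Algebra.Homology.ShortComplex.ModuleCat
import Mathlib.RingTheory.Noetherian.Basic

/-!
# Exact functors to complexes and Serre classes

Let `F : A ⥤ CochainComplex B ℤ` be an exact functor with values in degrees `≥ 0` (for example the cobar complex of a
comodule), let `I` be a bounded below complex in `A` and let `P` be a Serre class in `B`.  If `H^j(F(H^i(I)))` is in `P`
for all `i + j = n` then `H^n(Tot F(I))` is in `P`.  For `P = 0` this gives vanishing.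
-/

set_option autoImplicit false

universe w v₁ v₂ u₁ u₂

open CategoryTheory Category Limits HomologicalComplex₂ ComplexShape

namespace Groth.Agent.ResProp.EF.K380.DCF

open DC Groth.Agent.Htor.H253.TotalPrj

variable {A : Type u₁} [Category.{v₁} A] [Abelian A] {B : Type u₂} [Category.{v₂} B] [Abelian B]
  (F : A ⥤ CochainComplex B ℤ) [F.Additive] [PreservesFiniteLimits F] [PreservesFiniteColimits F]

/-- The double complex `F(I)`. -/
noncomputable abbrev dc (I : CochainComplex A ℤ) : CochainComplex (CochainComplex B ℤ) ℤ :=
  (F.mapHomologicalComplex (up ℤ)).obj I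

/-- `F` commutes with the cohomology of complexes. -/
noncomputable def homIso (I : CochainComplex A ℤ) (i : ℤ) : (dc F I).homology i ≅ F.obj (I.homology i) :=
  (I.sc i).mapHomologyIso F

omit [PreservesFiniteLimits F] [PreservesFiniteColimits F] in
lemma quad {a b : ℤ} (hF : ∀ (M : A) (j : ℤ), j < b → IsZero ((F.obj M).X j)) (I : CochainComplex A ℤ)
    (hI : ∀ i : ℤ, i < a → IsZero (I.X i)) : Quad a b (dc F I) := by
  intro i j hij
  rcases hij with hi | hj
  · exact (HomologicalComplex.eval B (up ℤ) j).map_isZero (F.map_isZero (hI i hi))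
  · exact hF _ _ hj

variable (P : ObjectProperty B) [P.IsSerreClass]

/-- **Main statement.** -/
theorem main {a b : ℤ} (hF : ∀ (M : A) (j : ℤ), j < b → IsZero ((F.obj M).X j)) (I : CochainComplex A ℤ)
    (hI : ∀ i : ℤ, i < a → IsZero (I.X i)) [HomologicalComplex₂.HasTotal (dc F I) (up ℤ)] (n : ℤ)
    (hP : ∀ i j : ℤ, i + j = n → P ((F.obj (I.homology i)).homology j)) :
    P ((HomologicalComplex₂.total (dc F I) (up ℤ)).homology n) :=
  DC.main P (dc F I) (quad F hF I hI) n fun i j hij =>
    P.prop_of_iso ((HomologicalComplex.homologyFunctor B (up ℤ) j).mapIso (homIso F I i).symm) (hP i j hij)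

/-- Vanishing. -/
theorem exactAt {a b : ℤ} (hF : ∀ (M : A) (j : ℤ), j < b → IsZero ((F.obj M).X j)) (I : CochainComplex A ℤ)
    (hI : ∀ i : ℤ, i < a → IsZero (I.X i)) [HomologicalComplex₂.HasTotal (dc F I) (up ℤ)] (r d n : ℤ)
    (hr : ∀ i : ℤ, r < i → I.ExactAt i) (hd : ∀ i j : ℤ, i ≤ r → d < j → (F.obj (I.homology i)).ExactAt j)
    (hn : r + d < n) : (HomologicalComplex₂.total (dc F I) (up ℤ)).ExactAt n := by
  rw [HomologicalComplex.exactAt_iff_isZero_homology]
  refine main F (IsZero (C := B)) hF I hI n fun i j hij => ?_
  by_cases hi : r < i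
  · exact (HomologicalComplex.homologyFunctor B (up ℤ) j).map_isZero (F.map_isZero (hr i hi).isZero_homology)
  · exact (hd i j (by lia) (by lia)).isZero_homology

/-- Finitely generated modules over a Noetherian ring form a Serre class. -/
abbrev fg (R : Type u₁) [CommRing R] : ObjectProperty (ModuleCat.{w} R) := fun M => Module.Finite R M

instance (R : Type u₁) [CommRing R] [IsNoetherianRing R] : (fg.{w} R).IsSerreClass where
  exists_zero := ⟨ModuleCat.of R PUnit, ModuleCat.isZero_of_subsingleton _, by
    change Module.Finite R PUnit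
    infer_instance⟩
  prop_of_mono f _ hY := by
    change Module.Finite R _ at hY
    change Module.Finite R _
    exact Module.Finite.of_injective f.hom ((ModuleCat.mono_iff_injective f).1 inferInstance)
  prop_of_epi f _ hX := by
    change Module.Finite R _ at hX
    change Module.Finite R _
    exact Module.Finite.of_surjective f.hom ((ModuleCat.epi_iff_surjective f).1 inferInstance)
  prop_X₂_of_shortExact {S} hS h₁ h₃ := by
    change Module.Finite R _ at h₁
    change Module.Finite R _ at h₃
    change Module.Finite R _
    exact Module.Finite.of_exact ((ShortComplex.ShortExact.moduleCat_exact_iff_function_exact _).1 hS.exact)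
      ((ModuleCat.epi_iff_surjective S.g).1 hS.epi_g)

end Groth.Agent.ResProp.EF.K380.DCF
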