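import Groth.Agent.Htor.H253.TotalQuasi
import Groth.Agent.CohDer.K236.TotalTools
import Mathlib.CategoryTheory.Abelian.SerreClass.Basic
import Mathlib.Algebra.Homology.Embedding.CochainComplex
import Mathlib.Algebra.Homology.HomotopyCategory.ShiftSequence
import Mathlib.Algebra.Homology.SingleHomology

/-!
# Cohomology of the total complex of a double complex and Serre classes

Let `D` be a double complex in an abelian category with `D^{i,j} = 0` for `i < a` or `j < b`, and let `P` be a
Serre class.  If `H^j(H^i(D))` (first the cohomology `H^i` with respect to the first index, which is a complex with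
respect to the second index, then its cohomology) belongs to `P` for all `i + j = n`, then `H^n(Tot D)` belongs
to `P`.
-/

set_option autoImplicit false

universe v u

open CategoryTheory Category Limits HomologicalComplex₂ ComplexShape

namespace Groth.Agent.ResProp.EF.K380.DC

open Groth.Agent.Htor.H253.TotalPrj Groth.Agent.Htor.H253.TotalQuasi K236.TotalTools

variable {C : Type u} [Category.{v} C] [Abelian C]

/-- `D^{i,j} = 0` for `i < a` or `j < b`. -/
def Quad (a b : ℤ) (D : HomologicalComplex₂ C (up ℤ) (up ℤ)) : Prop :=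
  ∀ i j : ℤ, i < a ∨ j < b → IsZero ((D.X i).X j)

variable {a b : ℤ}

lemma Quad.bdd {D : HomologicalComplex₂ C (up ℤ) (up ℤ)} (h : Quad a b D) : Bdd D :=
  fun n => ⟨a, n - b, fun i j hij hi => h i j (by lia)⟩

lemma Quad.hasTotal {D : HomologicalComplex₂ C (up ℤ) (up ℤ)} (h : Quad a b D) : D.HasTotal (up ℤ) :=
  K236.TotalTools.hasTotal h.bdd

section exact

instance mono_ff {D E : HomologicalComplex₂ C (up ℤ) (up ℤ)} (f : D ⟶ E) [Mono f] (i j : ℤ) :
    Mono ((f.f i).f j) := inferInstance

instance epi_ff {D E : HomologicalComplex₂ C (up ℤ) (up ℤ)} (f : D ⟶ E) [Epi f] (i j : ℤ) :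
    Epi ((f.f i).f j) := inferInstance

lemma Quad.of_mono {D E : HomologicalComplex₂ C (up ℤ) (up ℤ)} (f : D ⟶ E) [Mono f] (h : Quad a b E) :
    Quad a b D := fun i j hij => (h i j hij).of_mono ((f.f i).f j)

lemma Quad.of_epi {D E : HomologicalComplex₂ C (up ℤ) (up ℤ)} (f : D ⟶ E) [Epi f] (h : Quad a b D) :
    Quad a b E := fun i j hij => (h i j hij).of_epi ((f.f i).f j)

lemma total_map_zero' {D E F : HomologicalComplex₂ C (up ℤ) (up ℤ)} [D.HasTotal (up ℤ)] [E.HasTotal (up ℤ)]
    [F.HasTotal (up ℤ)] (f : D ⟶ E) (g : E ⟶ F) (w : f ≫ g = 0) :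
    total.map f (up ℤ) ≫ total.map g (up ℤ) = 0 := by
  ext n : 1
  apply total.hom_ext
  intro i j hij
  have h1 : (f.f i).f j ≫ (g.f i).f j = 0 := by
    exact congrArg (fun k : D ⟶ F => (k.f i).f j) w
  rw [HomologicalComplex.comp_f, ιTotal_map_assoc, ιTotal_map, reassoc_of% h1, zero_comp,
    HomologicalComplex.zero_f, comp_zero]

theorem shortExact_total (S : ShortComplex (HomologicalComplex₂ C (up ℤ) (up ℤ))) (hS : S.ShortExact)
    [S.X₁.HasTotal (up ℤ)] [S.X₂.HasTotal (up ℤ)] [S.X₃.HasTotal (up ℤ)]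
    (h1 : Bdd S.X₁) (h2 : Bdd S.X₂) :
    (ShortComplex.mk (total.map S.f (up ℤ)) (total.map S.g (up ℤ)) (total_map_zero' _ _ S.zero)).ShortExact := by
  have hm : Mono S.f := hS.mono_f
  have he : Epi S.g := hS.epi_g
  have hij : ∀ i j : ℤ, (ShortComplex.mk ((S.f.f i).f j) ((S.g.f i).f j) (by
      exact congrArg (fun k : S.X₁ ⟶ S.X₃ => (k.f i).f j) S.zero)).ShortExact := by
    intro i j
    exact (hS.map_of_exact (HomologicalComplex.eval (CochainComplex C ℤ) (up ℤ) i)).map_of_exact
      (HomologicalComplex.eval C (up ℤ) j)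
  apply HomologicalComplex.shortExact_of_degreewise_shortExact
  intro n
  have hmono : Mono ((total.map S.f (up ℤ)).f n) := by
    rw [Preadditive.mono_iff_cancel_zero]
    intro A g hg
    refine ext_prj h1 fun i j hij' => ?_
    rw [zero_comp, ← cancel_mono ((S.f.f i).f j), zero_comp, Category.assoc, ← map_prj, reassoc_of% hg, zero_comp]
  have hepi : Epi ((total.map S.g (up ℤ)).f n) := by
    rw [Preadditive.epi_iff_cancel_zero]
    intro A g hg
    apply total.hom_ext
    intro i j hij'
    rw [comp_zero, ← cancel_epi ((S.g.f i).f j), comp_zero, ← ιTotal_map_assoc, hg, comp_zero]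
  have hex : (ShortComplex.mk ((total.map S.f (up ℤ)).f n) ((total.map S.g (up ℤ)).f n) (by
      rw [← HomologicalComplex.comp_f, total_map_zero' _ _ S.zero, HomologicalComplex.zero_f])).Exact := by
    rw [ShortComplex.exact_iff_exact_up_to_refinements]
    intro A x hx
    dsimp at x hx
    have hx' : ∀ i j : ℤ, (x ≫ prj S.X₂ i j n) ≫ (S.g.f i).f j = 0 := by
      intro i j
      rw [Category.assoc, ← map_prj, reassoc_of% hx, zero_comp]
    let l : ∀ i j : ℤ, A ⟶ (S.X₁.X i).X j := fun i j =>
      (hij i j).fIsKernel.lift (KernelFork.ofι _ (hx' i j))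
    have hl : ∀ i j : ℤ, l i j ≫ (S.f.f i).f j = x ≫ prj S.X₂ i j n := fun i j =>
      (hij i j).fIsKernel.fac (KernelFork.ofι _ (hx' i j)) WalkingParallelPair.zero
    obtain ⟨y, hy⟩ := exists_prj h1 n l
    refine ⟨A, 𝟙 A, inferInstance, y, ?_⟩
    rw [id_comp]
    refine ext_prj h2 fun i j hij' => ?_
    dsimp
    rw [Category.assoc, map_prj, reassoc_of% (hy i j hij'), hl]
  exact { exact := hex, mono_f := hmono, epi_g := hepi }

end exact

section quasi

theorem quasiIso_tot {D E : HomologicalComplex₂ C (up ℤ) (up ℤ)} [D.HasTotal (up ℤ)] [E.HasTotal (up ℤ)]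
    (φ : D ⟶ E) (hD : Bdd D) (hE : Bdd E)
    [QuasiIso (C := CochainComplex C ℤ) φ] : QuasiIso (total.map φ (up ℤ)) := by
  refine quasiIso_total_map_of_flip φ hD hE fun j => ?_
  have : QuasiIso (((HomologicalComplex.eval C (up ℤ) j).mapHomologicalComplex (up ℤ)).map φ) := inferInstance
  exact this

section single

variable (p : ℤ) (M : CochainComplex C ℤ)

lemma quad_col (h : ∀ j : ℤ, j < b → IsZero (M.X j)) : Quad p b (col p M) := fun i j hij => by
  by_cases hi : i = p
  · subst hi
    exact (h j (by lia)).of_iso (colX i M j).symm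
  · exact isZero_col p M i j hi

theorem nonempty_homology_col [(col p M).HasTotal (up ℤ)] (n m : ℤ) (h : m + p = n) :
    Nonempty (((col p M).total (up ℤ)).homology n ≅ M.homology m) := by
  have e₁ := (HomologicalComplex.homologyFunctor C (up ℤ) n).mapIso (colIso p M)
  have e₂ := ((HomologicalComplex.homologyFunctor C (up ℤ) 0).shiftIso (-p) n m (by lia)).app M
  exact ⟨e₁.symm ≪≫ e₂⟩

end single

variable (P : ObjectProperty C) [P.IsSerreClass]

lemma Quad.of_iso {D E : HomologicalComplex₂ C (up ℤ) (up ℤ)} (f : D ≅ E) (h : Quad a b D) : Quad a b E :=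
  Quad.of_epi f.hom h

lemma prop_iff_of_quasiIso {D E : HomologicalComplex₂ C (up ℤ) (up ℤ)} [D.HasTotal (up ℤ)] [E.HasTotal (up ℤ)]
    (φ : D ⟶ E) (hD : Bdd D) (hE : Bdd E) [QuasiIso (C := CochainComplex C ℤ) φ] (n : ℤ) :
    P ((D.total (up ℤ)).homology n) ↔ P ((E.total (up ℤ)).homology n) := by
  have := quasiIso_tot φ hD hE
  exact P.prop_iff_of_iso (asIso (HomologicalComplex.homologyMap (total.map φ (up ℤ)) n))

/-- A double complex whose horizontal cohomology is concentrated in one degree. -/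
theorem prop_of_one (D : CochainComplex (CochainComplex C ℤ) ℤ) [HomologicalComplex₂.HasTotal D (up ℤ)]
    (hD : Quad a b D) (p n m : ℤ) (h : p + m = n) (h1 : ∀ i : ℤ, i ≠ p → D.ExactAt i)
    (hP : P ((D.homology p).homology m)) :
    P ((HomologicalComplex₂.total D (up ℤ)).homology n) := by
  have hge : D.IsGE p := (D.isGE_iff p).2 fun i hi => h1 i (by lia)
  have hle : D.IsLE p := (D.isLE_iff p).2 fun i hi => h1 i (by lia)
  have q1 : QuasiIso (D.ιTruncLE p) := (D.quasiIso_ιTruncLE_iff p).2 inferInstance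
  let D₁ : CochainComplex (CochainComplex C ℤ) ℤ := D.truncLE p
  have hge₁ : D₁.IsGE p := by
    rw [CochainComplex.isGE_iff]
    intro i hi
    exact (exactAt_iff_of_quasiIsoAt (D.ιTruncLE p) i).2 (h1 i (by lia))
  have q2 : QuasiIso (D₁.πTruncGE p) := (D₁.quasiIso_πTruncGE_iff p).2 inferInstance
  have m1 : Mono (D.ιTruncLE p) := inferInstanceAs (Mono (HomologicalComplex.ιTruncLE D (embeddingUpIntLE p)))
  have m2 : Epi (D₁.πTruncGE p) := inferInstanceAs (Epi (HomologicalComplex.πTruncGE D₁ (embeddingUpIntGE p)))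
  have hQ1 : Quad a b D₁ := Quad.of_mono (D.ιTruncLE p) hD
  have hQ2 : Quad a b (D₁.truncGE p) := Quad.of_epi (D₁.πTruncGE p) hQ1
  obtain ⟨M, ⟨e⟩⟩ := (D₁.truncGE p).exists_iso_single p
  have hQ3 : Quad a b (col p M) := hQ2.of_iso e
  have t1 := hQ1.hasTotal
  have t2 := hQ2.hasTotal
  have t3 := hQ3.hasTotal
  have hM : ∀ j : ℤ, j < b → IsZero (M.X j) := fun j hj => (hQ3 p j (Or.inr hj)).of_iso (colX p M j)
  rw [← prop_iff_of_quasiIso P (D.ιTruncLE p) hQ1.bdd hD.bdd n,
    prop_iff_of_quasiIso P (D₁.πTruncGE p) hQ1.bdd hQ2.bdd n,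
    prop_iff_of_quasiIso P e.hom hQ2.bdd hQ3.bdd n]
  obtain ⟨e'⟩ := nonempty_homology_col p M n m (by lia)
  refine P.prop_of_iso e'.symm (P.prop_of_iso ((HomologicalComplex.homologyFunctor C (up ℤ) m).mapIso ?_) hP)
  exact (asIso (HomologicalComplex.homologyMap (D.ιTruncLE p) p)).symm ≪≫
    asIso (HomologicalComplex.homologyMap (D₁.πTruncGE p) p) ≪≫
    asIso (HomologicalComplex.homologyMap e.hom p) ≪≫
    (HomologicalComplex.homologyFunctorSingleIso (CochainComplex C ℤ) (up ℤ) p).app M

lemma prop_of_exactAt (D : CochainComplex (CochainComplex C ℤ) ℤ) (i j : ℤ) (h : D.ExactAt i) :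
    P ((D.homology i).homology j) :=
  P.prop_of_isZero ((HomologicalComplex.homologyFunctor C (up ℤ) j).map_isZero h.isZero_homology)

lemma prop_of_homologyIso (D E : CochainComplex (CochainComplex C ℤ) ℤ) (i j : ℤ) (e : D.homology i ≅ E.homology i)
    (h : P ((E.homology i).homology j)) : P ((D.homology i).homology j) :=
  P.prop_of_iso ((HomologicalComplex.homologyFunctor C (up ℤ) j).mapIso e.symm) h

/-- Auxiliary statement, by induction on `k`. -/
theorem aux (n : ℤ) (k : ℕ) : ∀ (D : CochainComplex (CochainComplex C ℤ) ℤ)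
    [HomologicalComplex₂.HasTotal D (up ℤ)] (_ : Quad a b D) (_ : ∀ i : ℤ, i + k ≤ n - b → D.ExactAt i)
    (_ : ∀ i j : ℤ, i + j = n → P ((D.homology i).homology j)),
    P ((HomologicalComplex₂.total D (up ℤ)).homology n) := by
  induction k with
  | zero =>
    intro D _ hD hex hP
    have hge : D.IsGE (n - b + 1) := (D.isGE_iff _).2 fun i hi => hex i (by simp; lia)
    have q2 : QuasiIso (D.πTruncGE (n - b + 1)) := (D.quasiIso_πTruncGE_iff _).2 inferInstance
    have m2 : Epi (D.πTruncGE (n - b + 1)) :=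
      inferInstanceAs (Epi (HomologicalComplex.πTruncGE D (embeddingUpIntGE (n - b + 1))))
    have hQ2 : Quad a b (D.truncGE (n - b + 1)) := Quad.of_epi (D.πTruncGE (n - b + 1)) hD
    have t2 := hQ2.hasTotal
    rw [prop_iff_of_quasiIso P (D.πTruncGE (n - b + 1)) hD.bdd hQ2.bdd n]
    refine P.prop_of_isZero ?_
    rw [← HomologicalComplex.exactAt_iff_isZero_homology]
    apply HomologicalComplex.ExactAt.of_isZero
    rw [IsZero.iff_id_eq_zero]
    apply total.hom_ext
    intro i j hij
    have hij' : i + j = n := hij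
    refine IsZero.eq_of_src ?_ _ _
    by_cases hj : j < b
    · exact hQ2 i j (Or.inr hj)
    · exact (HomologicalComplex.eval C (up ℤ) j).map_isZero
        ((D.truncGE (n - b + 1)).isZero_of_isStrictlyGE (n - b + 1) i (by lia))
  | succ k ih =>
    intro D _ hD hex hP
    obtain ⟨p, hp⟩ : ∃ p : ℤ, p = n - b - k := ⟨_, rfl⟩
    let S := D.shortComplexTruncLE p
    have hS : S.ShortExact := D.shortComplexTruncLE_shortExact p
    have m1 : Mono S.f := hS.mono_f
    have m2 : Epi S.g := hS.epi_g
    have hQ1 : Quad a b S.X₁ := Quad.of_mono S.f hD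
    have hQ3 : Quad a b S.X₃ := Quad.of_epi S.g hD
    have t1 := hQ1.hasTotal
    have t2 : HomologicalComplex₂.HasTotal S.X₂ (up ℤ) := inferInstanceAs (HomologicalComplex₂.HasTotal D (up ℤ))
    have t3 := hQ3.hasTotal
    have key := (shortExact_total S hS hQ1.bdd hD.bdd).homology_exact₂ n
    refine P.prop_X₂_of_exact key ?_ ?_
    · refine prop_of_one P S.X₁ hQ1 p n (n - p) (by lia) ?_ ?_
      · intro i hi
        by_cases hi' : i < p
        · have : QuasiIsoAt (D.ιTruncLE p) i := D.quasiIsoAt_ιTruncLE p i (by lia)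
          exact (exactAt_iff_of_quasiIsoAt (D.ιTruncLE p) i).2 (hex i (by push_cast; lia))
        · exact HomologicalComplex.ExactAt.of_isZero
            ((D.truncLE p).isZero_of_isStrictlyLE p i (by lia))
      · have : QuasiIsoAt (D.ιTruncLE p) p := D.quasiIsoAt_ιTruncLE p p le_rfl
        exact prop_of_homologyIso P _ D p (n - p) (isoOfQuasiIsoAt (D.ιTruncLE p) p)
          (hP p (n - p) (by lia))
    · have hex3 : ∀ i : ℤ, i ≤ p → S.X₃.ExactAt i := by
        intro i hi
        have := D.shortComplexTruncLE_X₃_isSupportedOutside (embeddingUpIntLE p)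
        obtain ⟨m, rfl⟩ := Int.le.dest hi
        have := this.exactAt m
        have e : (embeddingUpIntLE (i + m)).f m = i := by simp
        rw [e] at this
        exact this
      refine ih S.X₃ hQ3 (fun i hi => hex3 i (by lia)) ?_
      intro i j hij
      by_cases hi : i ≤ p
      · exact prop_of_exactAt P _ i j (hex3 i hi)
      · have h1 : IsIso (HomologicalComplex.homologyMap S.g i) :=
          D.isIso_homologyMap_shortComplexTruncLE_g (embeddingUpIntLE p) i (fun m hm => by
            simp at hm; lia)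
        exact prop_of_homologyIso P _ D i j (asIso (HomologicalComplex.homologyMap S.g i)).symm (hP i j hij)

/-- **Cohomology of a total complex and Serre classes.** -/
theorem main (D : CochainComplex (CochainComplex C ℤ) ℤ) [HomologicalComplex₂.HasTotal D (up ℤ)] (hD : Quad a b D)
    (n : ℤ) (hP : ∀ i j : ℤ, i + j = n → P ((D.homology i).homology j)) :
    P ((HomologicalComplex₂.total D (up ℤ)).homology n) := by
  refine aux P n (n - b - a + 1).toNat D hD (fun i hi => ?_) hP
  have hi' : i < a := by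
    have := Int.self_le_toNat (n - b - a + 1)
    lia
  apply HomologicalComplex.ExactAt.of_isZero
  rw [IsZero.iff_id_eq_zero]
  ext j
  exact (hD i j (Or.inl hi')).eq_of_src _ _

end quasi

end Groth.Agent.ResProp.EF.K380.DC
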